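import Cfsg.Agent.H0.TC
set_option maxRecDepth 100000
namespace H0.TCMcLp3
open H0
noncomputable def r0 : TC.WTr := (.node (.node (.node (.node (.node (.node (.leaf [0] 0 0 false) (.leaf [5] 4 0 false)) (.leaf [3] 2 0 false)) (.node (.node (.leaf [1] 1 0 false) (.leaf [4] 4 1 false)) (.leaf [2] 2 1 false))) (.node (.node (.node (.leaf [2, 0, 2, 0, 2] 11 0 false) (.leaf [0, 2, 0, 2, 0, 1, 3] 19 5 true)) (.leaf [2, 2] 7 0 false)) (.node (.node (.leaf [2, 1, 4] 8 1 true) (.leaf [0, 5, 0, 5, 0] 18 1 false)) (.leaf [0, 3, 0, 3, 0] 11 0 true)))) (.node (.node (.node (.node (.leaf [3, 0, 3, 0, 3] 11 1 true) (.leaf [4, 4] 6 0 false)) (.leaf [0, 2, 0, 2, 0] 11 1 false)) (.node (.node (.leaf [4, 1, 2] 8 3 true) (.leaf [5, 5] 6 0 true)) (.leaf [3, 3] 7 0 true))) (.node (.node (.node (.leaf [3, 0, 2, 0, 3, 0, 2] 12 2 false) (.leaf [0, 4, 0, 4, 0] 18 0 true)) (.leaf [1, 0, 3, 0, 3, 0, 5] 19 3 false)) (.node (.node (.leaf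 [0, 1, 0, 1, 0, 1, 0] 9 1 false) (.leaf [4] 4 1 false)) (.leaf [4, 0, 2, 0, 2, 0, 1] 19 4 true))))) (.node (.node (.node (.node (.node (.leaf [5, 0, 5, 0, 5] 18 0 false) (.leaf [1, 2, 1] 8 0 true)) (.leaf [1, 2, 1, 2, 1] 14 1 false)) (.node (.node (.leaf [3, 1, 3, 1, 3] 14 1 true) (.leaf [3, 5, 3] 17 1 false)) (.leaf [1, 5, 1] 8 1 false))) (.node (.node (.node (.leaf [1, 0, 1, 0, 1, 0, 1] 9 0 false) (.leaf [2, 4, 2] 17 0 true)) (.leaf [1, 4, 1] 8 2 true)) (.node (.node (.leaf [3, 1, 5] 8 0 false) (.leaf [4] 4 1 false)) (.leaf [0, 5, 2, 1, 0, 3, 0] 19 0 false)))) (.node (.node (.node (.node (.leaf [4, 0, 4, 0, 4] 18 1 true) (.leaf [1, 0, 4, 1, 0, 4, 1, 0] 20 0 true)) (.leaf [4, 2, 4] 17 1 true)) (.node (.node (.leaf [5, 1, 3] 8 2 false) (.leaf [1, 3, 1] 8 3 false)) (.leaf [5, 3, 5] 17 0 false))) (.node (.node (.node (.leaf [2, 0, 2, 0, 1, 3, 4] 19 6 true) (.leaf [5] 4 0 false)) (.leaf [0, 3, 0, 2, 0, 3,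 0] 12 1 false)) (.node (.node (.leaf [5, 0, 1, 5, 0, 1, 5, 0] 20 1 false) (.leaf [4] 4 1 false)) (.leaf [0, 2, 0, 3, 0, 2, 0] 12 3 false))))))
noncomputable def tS : Tr := (.leaf (nat_lit 0xffe6f891bf874c6925d7ff2467fe33b7b34b2f7ff8e03789b0b136e9fdffcfe96055a37cb0c75ffee9177bbe7ce5e06ffff4f2370ae9f07e33ffffa1c57436cd915e8e9ffdd9ba57cd0fcdd8dbffeca86c15936abd953fff1ae8ad5a15a66ea9bff9741ac7dd6c957979ffc6b1b56349d8ac4b9ffee95fc2a335ee9c6afff2e2350fc95b73adc3ff8d4364ea0cf43a64bffd9419b474e746a3b2ffecedd21f3646c9869fff2da348d0b2977ae93ff8d235c97d7e1e26d9ffccfb292c48f4693adffe9d8eba2a3ac56468fff5b0ddd6b26b4b4343ffb6c4bedb9b0ae019fffdadb705bcdc56e0ceffe59866c3b87cdcd7bfff19a69dffc386de9dbffbf87e6590669fe6e3ffdf7bfb19a694ffb6effe5fcbf36f5e6334ab7ff242230de9ac45a867ff88c2c4ca4f71bc23dffcde13d1185495491cffeaa4f613c45a2309dfff23a22cf8b28372587ff88b2bcdc0dd3f2335ffc9d1f92a822d94160ffe7c1941b227222c9c7ff232228db2f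4554777ff88a2b4cd4db9ab4c5ffc9baaa22e228da117ffe8ac9b08a2b06d4ac7ff26a4d0d5aaa11468fffa0e10e42148b53267ffc9913121667098087ffe21947b10212e5497fff25c4b4d010c25821bff91010a95504106257ffc42951312b4c8392affeb4d2310e10a42094fff38e9544294f2124a3ff92724c4949212310bffc710e12a43806f844ffe3786e8dc2a836c21fff1b43646c0d71ac10bff8c808254ca814e191ffc209093a2554a7909ffe355070c60825406a7ff41e34c209072a234bff8d11a033c6704119bffc41a021060006188cffe6086200018841045fff38850c410c200022bff88911021c43085001ffc0000008810c21041))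
noncomputable def tJ : Tr := (.leaf (nat_lit 0x402a365150a0034350c2034020042a320046076a402b36503000a4240046700a402b365150c20300402a065050a003400040420d4029065150900307103100900006027e4029360050900043103163900004407d0000003e0003000b0000546c402905405090000320002900300090061000009540290001509040033000942410000590402900005090300320052900100100904029050050900000200529023000900010001590402b30500000400b50c203000000020c402a305050a0034020002a303030a0200000000a0000000b0000000c0000000a40290101509030002000290030109000100000902010291030009000101110900000000900880000))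
noncomputable def tQ : Tr := (.leaf (nat_lit 0x0))
noncomputable def tR : TC.WTr := r0
def hl : List ℕ := [4, 5, 5, 4]
def B : List (List ℕ) := [[0, 0], [1, 1], [2, 3], [3, 2], [4, 5], [5, 4], [4, 4, 4], [2, 2, 2], [1, 3, 1, 5], [0, 1, 0, 1, 0, 1, 0, 1], [0, 1, 0, 1, 0, 1, 0, 1], [0, 2, 0, 2, 0, 2], [0, 2, 0, 3, 0, 2, 0, 3], [0, 3, 0, 3, 0, 3], [1, 2, 1, 2, 1, 2], [1, 2, 1, 3, 1, 2, 1, 3], [1, 3, 1, 3, 1, 3], [3, 5, 3, 5], [0, 5, 0, 5, 0, 5], [3, 0, 5, 2, 1, 0, 3, 0], [0, 1, 5, 0, 1, 5, 0, 1, 5]]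
def subs : List (List ℕ) := [[4], [5]]
def ex : List (List ℕ) := []
def inv (x : ℕ) : ℕ := [0, 1, 3, 2, 5, 4].getD x 0
noncomputable def rS : ℕ → ℕ := rowOf tS (nat_lit 8) (nat_lit 255) (nat_lit 77) (nat_lit 151115727451828646838271)
noncomputable def rJ : ℕ → ℕ := rowOf tJ (nat_lit 8) (nat_lit 255) (nat_lit 32) (nat_lit 4294967295)
noncomputable def C : TC.Cfg where
  S := look rS (nat_lit 11) (nat_lit 2047)
  J := look rJ (nat_lit 4) (nat_lit 15)
  Q := lookQ tQ (nat_lit 8) (nat_lit 1) (nat_lit 1)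
  R := tR.get
  hl := fun x => hl.contains x
  n := (nat_lit 64)
  M := (nat_lit 64)
  top := (nat_lit 1280)
  nl := (nat_lit 6)
  need := (nat_lit 6)
  nr := (nat_lit 8)
theorem k0 : TC.chkRange C 0 1 = true := by decide +kernel
theorem rows0 : ∀ c < (0 + 1) * 64, c < C.M → TC.chkRow C c = true :=
  TC.rows_step (TC.rows_zero C) k0
theorem main {G : Type*} [Group G] (g : ℕ → G) (hB : ∀ r ∈ B, ev g r = 1) (H : Subgroup G)
    (hH : ∀ w ∈ subs, ev g w ∈ H) :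
    H.relIndex (Subgroup.closure (g '' {x | x < 6})) ≠ 0 ∧
      H.relIndex (Subgroup.closure (g '' {x | x < 6})) ≤ 64 :=
  TC.index_le C B subs ex inv hl tR.hint rfl (by decide +kernel) (by decide +kernel)
    (TC.rows_done rows0 (by decide +kernel)) g hB H hH
end H0.TCMcLp3
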